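import Groth.Agent.PCohH7.Infinite
import Groth.Prelude.Def_DRing2
import Mathlib.Algebra.Category.ModuleCat.ChangeOfRings
import Mathlib.Algebra.Homology.HomotopyCategory.MappingCone
import Mathlib.RingTheory.Finiteness.Projective
import Mathlib.RingTheory.Finiteness.Prod
import Mathlib.Algebra.Category.ModuleCat.Biproducts
import Mathlib.Algebra.Homology.ShortComplex.ModuleCat
import Mathlib.LinearAlgebra.Finsupp.VectorSpace

/-!
# Pseudo-coherence over a finite free algebra
-/

set_option autoImplicit false
set_option linter.style.haveILetI false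
set_option backward.isDefEq.respectTransparency false

universe u

open CategoryTheory CategoryTheory.Limits CochainComplex HomologicalComplex
open scoped ZeroObject

attribute [local instance] HasDerivedCategory.standard

noncomputable section

namespace Groth.Agent.PCAlgLib

open Groth.Agent.PCohH7

variable (R : Type u) [Ring R]

/-- Finite free modules. -/
abbrev FF : ObjectProperty (ModuleCat.{u} R) := fun M => Module.Finite R M ∧ Module.Free R M

variable {R}

theorem ff_iso {M N : ModuleCat.{u} R} (e : M ≅ N) (h : FF R M) : FF R N := by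
  haveI := h.1
  haveI := h.2
  exact ⟨Module.Finite.equiv e.toLinearEquiv, Module.Free.of_equiv e.toLinearEquiv⟩

instance : (FF R).IsClosedUnderIsomorphisms := ⟨fun e h => ff_iso e h⟩

theorem ff_zero {M : ModuleCat.{u} R} (h : IsZero M) : FF R M :=
  ff_iso ((ModuleCat.isZero_of_subsingleton (ModuleCat.of R PUnit.{u + 1})).iso h) ⟨inferInstance, inferInstance⟩

instance : (FF R).ContainsZero := ⟨0, isZero_zero _, ff_zero (isZero_zero _)⟩

theorem ff_sum (M N : ModuleCat.{u} R) (hM : FF R M) (hN : FF R N) : FF R (M ⨯ N) := by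
  haveI := hM.1
  haveI := hM.2
  haveI := hN.1
  haveI := hN.2
  exact ff_iso ((ModuleCat.biprodIsoProd M N).symm ≪≫ biprod.isoProd M N)
    ⟨inferInstanceAs (Module.Finite R (M × N)), inferInstanceAs (Module.Free R (M × N))⟩

theorem isOfFiniteType_of_finite (M : ModuleCat.{u} R) [Module.Finite R M] : PCoh.IsOfFiniteType (FF R) M := by
  obtain ⟨n, f, hf⟩ := Module.Finite.exists_fin' R M
  exact ⟨ModuleCat.of R (Fin n → R), ModuleCat.ofHom f,
    ⟨inferInstanceAs (Module.Finite R (Fin n → R)), inferInstanceAs (Module.Free R (Fin n → R))⟩,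
    (ModuleCat.epi_iff_surjective _).2 hf⟩

theorem finite_of_isOfFiniteType {M : ModuleCat.{u} R} (h : PCoh.IsOfFiniteType (FF R) M) : Module.Finite R M := by
  obtain ⟨E, π, hE, hπ⟩ := h
  haveI := hE.1
  exact Module.Finite.of_surjective π.hom ((ModuleCat.epi_iff_surjective _).1 hπ)

theorem quasiLiftable : PCoh.IsQuasiLiftable (FF R) := fun E F u hu hF => by
  haveI := hF.1
  haveI := hF.2
  haveI : Module.Projective R F := Module.Projective.of_free
  obtain ⟨s, hs⟩ := Module.projective_lifting_property u.hom LinearMap.id ((ModuleCat.epi_iff_surjective _).1 hu)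
  refine ⟨F, ModuleCat.ofHom s, hF, ?_⟩
  rw [show ModuleCat.ofHom s ≫ u = 𝟙 F from ModuleCat.hom_ext hs]
  infer_instance

theorem quasiStable : PCoh.IsQuasiStableUnderKernels (FF R) := fun K hK ⟨n, hn⟩ hP => by
  have hex : ∀ i, LinearMap.range (K.d i (i + 1)).hom = LinearMap.ker (K.d (i + 1) (i + 1 + 1)).hom := fun i =>
    ((K.exactAt_iff' i (i + 1) (i + 1 + 1) (by simp) (by simp)).1 (hK (i + 1))).moduleCat_range_eq_ker
  have key : ∀ (k i : ℕ), 1 ≤ i → n + 1 ≤ i + k →
      Module.Finite R (LinearMap.ker (K.d i (i + 1)).hom) ∧ Module.Projective R (LinearMap.ker (K.d i (i + 1)).hom) := by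
    intro k
    induction k with
    | zero =>
      intro i _ hi
      haveI := ModuleCat.subsingleton_of_isZero (hn i (by omega))
      exact ⟨inferInstance, inferInstance⟩
    | succ k ih =>
      intro i hi1 hi
      obtain ⟨hf, hp⟩ := ih (i + 1) (by omega) (by omega)
      haveI := (hP i hi1).1
      haveI := (hP i hi1).2
      let t : (K.X i) →ₗ[R] LinearMap.ker (K.d (i + 1) (i + 1 + 1)).hom :=
        (K.d i (i + 1)).hom.codRestrict _ fun x => hex i ▸ LinearMap.mem_range_self _ x
      have ht : Function.Surjective t := fun y => by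
        obtain ⟨x, hx⟩ : (y : K.X (i + 1)) ∈ LinearMap.range (K.d i (i + 1)).hom := by rw [hex i]; exact y.2
        exact ⟨x, Subtype.ext hx⟩
      obtain ⟨s, hs⟩ := Module.projective_lifting_property t LinearMap.id ht
      have hts : ∀ y, t (s y) = y := LinearMap.congr_fun hs
      let p : (K.X i) →ₗ[R] LinearMap.ker (K.d i (i + 1)).hom :=
        (LinearMap.id - s.comp t).codRestrict _ fun x => by
          have h : t (x - s (t x)) = 0 := by rw [map_sub, hts, sub_self]
          exact LinearMap.mem_ker.2 (congrArg Subtype.val h)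
      have hp' : p.comp (Submodule.subtype _) = LinearMap.id := LinearMap.ext fun x => by
        have h : t x.1 = 0 := Subtype.ext x.2
        ext
        simp [p, h]
      exact ⟨Module.Finite.of_surjective p fun x => ⟨x.1, LinearMap.congr_fun hp' x⟩,
        Module.Projective.of_split _ p hp'⟩
  obtain ⟨hf, -⟩ := key n 1 le_rfl (by omega)
  have h0 : Mono (K.d 0 1) :=
    (ShortComplex.exact_iff_mono _ (K.shape 0 0 (by simp))).1 ((K.exactAt_iff' 0 0 1 (by simp) (by simp)).1 (hK 0))
  haveI : Module.Finite R (K.X 0) := by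
    let e : (K.X 0) ≃ₗ[R] LinearMap.range (K.d 0 1).hom :=
      LinearEquiv.ofInjective (K.d 0 1).hom ((ModuleCat.mono_iff_injective _).1 h0)
    haveI : Module.Finite R (LinearMap.range (K.d 0 1).hom) := by
      rw [hex 0]
      exact hf
    exact Module.Finite.equiv e.symm
  exact isOfFiniteType_of_finite _

variable (A : Type u) [CommRing A] (R) [Algebra A R] [Module.Finite A R] [Module.Free A R]
  [PreservesFiniteLimits (ModuleCat.restrictScalars.{u} (algebraMap A R))]
  [PreservesFiniteColimits (ModuleCat.restrictScalars.{u} (algebraMap A R))]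

/-- Restriction of scalars. -/
abbrev res : ModuleCat.{u} R ⥤ ModuleCat.{u} A := ModuleCat.restrictScalars.{u} (algebraMap A R)

theorem ff_res {M : ModuleCat.{u} R} (h : FF R M) : FF A ((res R A).obj M) := by
  letI := Module.compHom (R := R) M (algebraMap A R)
  haveI : IsScalarTower A R M := ⟨fun a r m => by
    show (a • r) • m = (algebraMap A R a) • r • m
    rw [Algebra.smul_def, mul_smul]⟩
  haveI := h.1
  haveI := h.2
  exact ⟨Module.Finite.trans R M, Module.Free.trans (R := A) (S := R) (M := M)⟩

theorem finite_of_res {M : ModuleCat.{u} R} (h : Module.Finite A ((res R A).obj M)) : Module.Finite R M := by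
  letI := Module.compHom (R := R) M (algebraMap A R)
  haveI : IsScalarTower A R M := ⟨fun a r m => by
    show (a • r) • m = (algebraMap A R a) • r • m
    rw [Algebra.smul_def, mul_smul]⟩
  haveI : Module.Finite A M := h
  exact Module.Finite.of_restrictScalars_finite A R M

theorem isZero_of_res {M : ModuleCat.{u} R} (h : IsZero ((res R A).obj M)) : IsZero M := by
  haveI : Subsingleton M := show Subsingleton ((res R A).obj M) from ModuleCat.subsingleton_of_isZero h
  exact ModuleCat.isZero_of_subsingleton M

/-- Homology commutes with restriction of scalars. -/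
def resHomologyIso (K : CochainComplex (ModuleCat.{u} R) ℤ) (i : ℤ) :
    (((res R A).mapHomologicalComplex (ComplexShape.up ℤ)).obj K).homology i ≅ (res R A).obj (K.homology i) :=
  (K.sc i).mapHomologyIso (res R A)

theorem isPC_of_res (M : DerivedCategory (ModuleCat.{u} R))
    (hM : DRing.IsPseudoCoherent' A ((res R A).mapDerivedCategory.obj M)) :
    ∃ (F : CochainComplex (ModuleCat.{u} R) ℤ) (b : ℤ), (∀ i : ℤ, b < i → IsZero (F.X i)) ∧
      (∀ i : ℤ, Module.Finite R (F.X i) ∧ Module.Free R (F.X i)) ∧ Nonempty (DerivedCategory.Q.obj F ≅ M) := by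
  let K := DerivedCategory.Q.objPreimage M
  let eK := DerivedCategory.Q.objObjPreimageIso M
  let G := (res R A).mapHomologicalComplex (ComplexShape.up ℤ)
  obtain ⟨E, b, hb, hfin, ⟨e⟩⟩ := hM
  have hGK : ∀ n, PCn (FF A) n (DerivedCategory.Q.obj (G.obj K)) := fun n =>
    ⟨E, ⟨⟨b, hb⟩, fun i _ => hfin i⟩, ⟨e ≪≫ (res R A).mapDerivedCategory.mapIso eK.symm ≪≫
      (res R A).mapDerivedCategoryFactors.app K⟩⟩
  have hpc : PCoh.IsPC (FF R) (DerivedCategory.Q.obj K) := fun n => by
    obtain ⟨i, hni, hi⟩ := exists_bound (hGK n)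
    refine pcn_of_ft ff_sum quasiLiftable hni K (fun j hj => ?_) fun k E' u' hnk _ hu' hE' => ?_
    · exact isZero_of_res R A ((hi j hj).of_iso (resHomologyIso R A K j).symm)
    · let η := mappingCone.mapHomologicalComplexIso u' (res R A)
      let ι := fun j => (HomologicalComplex.homologyFunctor _ _ j).mapIso η.symm ≪≫
        resHomologyIso R A (mappingCone u') j
      have hu : NQis (k + 1) (G.map u') := (nqis_iff_cone _ _).2 fun j hj =>
        ((res R A).map_isZero ((nqis_iff_cone u' _).1 hu' j hj)).of_iso (ι j)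
      have hft := ft_cone_of_strict (P := FF A) ff_sum quasiStable quasiLiftable hnk (G.map u') hu
        ⟨by
          obtain ⟨c, hc⟩ := hE'.1
          exact ⟨c, fun j hj => (res R A).map_isZero (hc j hj)⟩, fun j hj => ff_res R A (hE'.2 j hj)⟩ (hGK n)
      haveI := finite_of_res R A (finite_of_isOfFiniteType (isOfFiniteType_of_iso (ι k) hft))
      exact isOfFiniteType_of_finite _
  obtain ⟨F, u, ⟨⟨c, hc⟩, hF⟩, hu⟩ := exists_resolution' ff_sum quasiStable quasiLiftable K hpc
  haveI := hu
  exact ⟨F, c, hc, hF, ⟨asIso (DerivedCategory.Q.map u) ≪≫ eK⟩⟩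

end Groth.Agent.PCAlgLib
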